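import Groth.Agent.HopfFF.Main
import Groth.Agent.LinRed.Criteria

/-!
# Linear reductivity in an exact sequence of affine group schemes of finite type over a field
-/

set_option autoImplicit false
universe u v w w'

open TensorProduct WithConv

namespace Groth.Agent.HopfFF

open Groth.Agent.Comod Groth.Agent.LinRed

variable {k : Type u} [Field k] {Q : Type v} {G : Type v} {K : Type v}
  [CommRing Q] [HopfAlgebra k Q] [CommRing G] [HopfAlgebra k G] [CommRing K] [HopfAlgebra k K]

/-- the coaction of the kernel on the group by left translation, the factors exchanged -/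
noncomputable def mu (ψ : G →ₐc[k] K) : G →ₐ[k] G ⊗[k] K :=
  (preComp ψ (toConv (Algebra.TensorProduct.includeRight : K →ₐ[k] G ⊗[k] K)) *
    toConv (Algebra.TensorProduct.includeLeft : G →ₐ[k] G ⊗[k] K)).ofConv

theorem mu_apply (ψ : G →ₐc[k] K) (a : G) :
    mu ψ a = TensorProduct.comm k K G
      ((ψ : G →ₐ[k] K).toLinearMap.rTensor G (Coalgebra.comul (R := k) a)) := by
  rw [mu, AlgHom.convMul_apply]
  generalize Coalgebra.comul (R := k) a = z
  induction z with
  | zero => simp
  | tmul p q => simp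
  | add y z hy hz => simp only [map_add, hy, hz]

theorem counit_comp_of_ker {φ : Q →ₐc[k] G} {ψ : G →ₐc[k] K}
    (hker : RingHom.ker (ψ : G →ₐ[k] K) =
      Ideal.map (φ : Q →ₐ[k] G) (RingHom.ker (Bialgebra.counitAlgHom k Q))) (q : Q) :
    ψ (φ q) = algebraMap k K (Coalgebra.counit (R := k) q) := by
  have h : (φ : Q →ₐ[k] G) (q - algebraMap k Q (Coalgebra.counit (R := k) q)) ∈ RingHom.ker (ψ : G →ₐ[k] K) :=
    hker ▸ Ideal.mem_map_of_mem _ (by simp [RingHom.mem_ker])
  rw [map_sub, AlgHom.commutes, RingHom.mem_ker, map_sub, AlgHom.commutes, sub_eq_zero] at h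
  exact h

variable [Algebra Q G] [IsScalarTower k Q G] (φ : Q →ₐc[k] G) (hf : ∀ q, algebraMap Q G q = φ q)
  (ψ : G →ₐc[k] K)
  (hker : RingHom.ker (ψ : G →ₐ[k] K) =
      Ideal.map (φ : Q →ₐ[k] G) (RingHom.ker (Bialgebra.counitAlgHom k Q)))

/-- the two tautological points of `G ⊗[Q] G` -/
noncomputable def pt₁ : WithConv (G →ₐ[k] G ⊗[Q] G) :=
  toConv ((Algebra.TensorProduct.includeRight : G →ₐ[Q] G ⊗[Q] G).restrictScalars k)

/-- the two tautological points of `G ⊗[Q] G` -/
noncomputable def pt₂ : WithConv (G →ₐ[k] G ⊗[Q] G) :=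
  toConv (Algebra.TensorProduct.includeLeft : G →ₐ[k] G ⊗[Q] G)

include hf hker in
theorem ker_le :
    RingHom.ker (ψ : G →ₐ[k] K) ≤ RingHom.ker ((pt₁ (Q := Q)) * inv' (pt₂ (k := k) (Q := Q) (G := G))).ofConv := by
  have hi : preComp φ (pt₁ (k := k) (Q := Q) (G := G)) = preComp φ pt₂ := by
    apply WithConv.ofConv_injective
    ext a
    show (1 : G) ⊗ₜ[Q] (φ a) = (φ a) ⊗ₜ[Q] (1 : G)
    rw [← hf, Algebra.algebraMap_eq_smul_one, TensorProduct.smul_tmul]
  rw [hker, Ideal.map_le_iff_le_comap]
  intro q hq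
  rw [Ideal.mem_comap, RingHom.mem_ker]
  show (pt₁ * inv' pt₂).ofConv (φ q) = 0
  rw [← preComp_apply, map_mul, hi, ← map_mul, mul_inv', map_one]
  show algebraMap k _ (Coalgebra.counit (R := k) q) = 0
  rw [show Coalgebra.counit (R := k) q = 0 from hq, map_zero]

include hf hker in
theorem exists_theta (hψ : Function.Surjective ψ) :
    ∃ θ : K →ₐ[k] G ⊗[Q] G, preComp ψ (toConv θ) * pt₂ = pt₁ := by
  let g : G →ₐ[k] G ⊗[Q] G := (pt₁ (Q := Q) * inv' pt₂).ofConv
  have hg : RingHom.ker (ψ : G →ₐ[k] K) ≤ RingHom.ker g := ker_le φ hf ψ hker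
  let θ : K →ₐ[k] G ⊗[Q] G := AlgHom.liftOfSurjective (ψ : G →ₐ[k] K) hψ g fun x hx => hg hx
  have h : preComp ψ (toConv θ) = (pt₁ (k := k) (Q := Q) (G := G)) * inv' pt₂ :=
    WithConv.ofConv_injective (AlgHom.liftOfSurjective_comp _ hψ g fun x hx => hg hx)
  refine ⟨θ, ?_⟩
  rw [h]
  exact (mul_assoc _ _ _).trans ((congrArg _ (inv'_mul _)).trans (mul_one _))

include hf hker in
theorem mem_range_of_mu_eq [Module.FaithfullyFlat Q G] (hψ : Function.Surjective ψ) {a : G}
    (ha : mu ψ a = a ⊗ₜ[k] 1) : ∃ q, φ q = a := by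
  obtain ⟨θ, hθ⟩ := exists_theta φ hf ψ hker hψ
  let Φ : G ⊗[k] K →ₐ[k] G ⊗[Q] G :=
    Algebra.TensorProduct.lift (pt₂ (Q := Q)).ofConv θ fun _ _ => Commute.all _ _
  have hΦ : ∀ x, Φ (mu ψ x) = (pt₁ (k := k) (Q := Q) (G := G)).ofConv x := by
    intro x
    rw [mu_apply, ← hθ, AlgHom.convMul_apply]
    generalize Coalgebra.comul (R := k) x = z
    induction z with
    | zero => simp
    | tmul p q => simp [Φ, mul_comm]
    | add y z hy hz => simp only [map_add, hy, hz]
  have h1 : (1 : G) ⊗ₜ[Q] a = a ⊗ₜ[Q] (1 : G) := by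
    have h := hΦ a
    rw [ha] at h
    simpa [Φ, pt₁, pt₂] using h.symm
  let L : Submodule Q G := LinearMap.range (Algebra.linearMap Q G)
  have h2 : (1 : G) ⊗ₜ[Q] L.mkQ a = 0 := by
    have h := congrArg (L.mkQ.lTensor G) h1
    rw [LinearMap.lTensor_tmul, LinearMap.lTensor_tmul] at h
    rw [h, show L.mkQ 1 = 0 from (Submodule.Quotient.mk_eq_zero _).2 ⟨1, by simp⟩, tmul_zero]
  have h3 : L.mkQ a = 0 := Module.FaithfullyFlat.tensorProduct_mk_injective (A := Q) (B := G) (G ⧸ L)
    (show (1 : G) ⊗ₜ[Q] L.mkQ a = (1 : G) ⊗ₜ[Q] 0 by rw [h2, tmul_zero])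
  obtain ⟨q, hq⟩ := (Submodule.Quotient.mk_eq_zero _).1 h3
  exact ⟨q, by rw [← hf]; exact hq⟩

theorem mul_right_cancel' {T : Type*} [CommRing T] [Algebra k T] {x y z : WithConv (G →ₐ[k] T)}
    (h : x * z = y * z) : x = y := by
  have hc := congrArg (· * inv' z) h
  simpa only [mul_assoc, mul_inv', mul_one] using hc

/-- translation average commutes with comultiplication -/
theorem comul_slL_comul (γ : G →ₗ[k] k) (a : G) :
    Coalgebra.comul (R := k) (slL γ (Coalgebra.comul (R := k) a)) =
      (slL γ ∘ₗ Coalgebra.comul (R := k)).rTensor G (Coalgebra.comul (R := k) a) := by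
  have h := Coalgebra.coassoc_apply (R := k) a
  have e1 : ∀ z : G ⊗[k] G, Coalgebra.comul (R := k) (slL γ z) =
      slL γ ((Coalgebra.comul (R := k)).lTensor G z) := by
    intro z
    induction z with
    | zero => simp
    | tmul p q => simp
    | add y z hy hz => simp only [map_add, hy, hz]
  have e2 : ∀ z : G ⊗[k] G, slL γ (TensorProduct.assoc k G G G ((Coalgebra.comul (R := k)).rTensor G z)) =
      (slL γ ∘ₗ Coalgebra.comul (R := k)).rTensor G z := by
    intro z
    induction z with
    | zero => simp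
    | tmul p q =>
      simp only [LinearMap.rTensor_tmul, LinearMap.comp_apply]
      generalize Coalgebra.comul (R := k) p = y
      induction y with
      | zero => simp
      | tmul r s => simp [TensorProduct.smul_tmul']
      | add y z hy hz => simp only [add_tmul, map_add, hy, hz]
    | add y z hy hz => simp only [map_add, hy, hz]
  rw [e1, ← h, e2]

include hf hker in
theorem isLinearlyReductive_middle [Module.FaithfullyFlat Q G] (hφ : Function.Injective φ)
    (hψ : Function.Surjective ψ) (hK : HopfRep.IsLinearlyReductive k K)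
    (hQ : HopfRep.IsLinearlyReductive k Q) : HopfRep.IsLinearlyReductive k G := by
  obtain ⟨β, hβ⟩ := exists_isNormIntegral hK
  obtain ⟨αQ, hαQ⟩ := exists_isNormIntegral hQ
  let γ : G →ₗ[k] k := β ∘ₗ (ψ : G →ₐ[k] K).toLinearMap
  let E : G →ₗ[k] G := slL γ ∘ₗ Coalgebra.comul (R := k)
  have hE : ∀ a, ∃ q, φ q = E a := by
    intro a
    refine mem_range_of_mu_eq φ hf ψ hker hψ ?_
    have hψE : ∀ b, ψ (E b) = γ b • (1 : K) := by
      intro b
      have : ∀ z : G ⊗[k] G, ψ (slL γ z) =
          slL β (TensorProduct.map (ψ : G →ₐ[k] K).toLinearMap (ψ : G →ₐ[k] K).toLinearMap z) := by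
        intro z
        induction z with
        | zero => simp
        | tmul p q => simp [γ]
        | add y z hy hz => simp only [map_add, hy, hz]
      show ψ (slL γ (Coalgebra.comul (R := k) b)) = _
      rw [this, show TensorProduct.map (ψ : G →ₐ[k] K).toLinearMap (ψ : G →ₐ[k] K).toLinearMap
        (Coalgebra.comul (R := k) b) = Coalgebra.comul (R := k) (ψ b) from CoalgHomClass.map_comp_comul_apply ψ b]
      exact hβ.right _
    rw [mu_apply, show Coalgebra.comul (R := k) (E a) = E.rTensor G (Coalgebra.comul (R := k) a) from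
      comul_slL_comul γ a]
    show _ = slL γ (Coalgebra.comul (R := k) a) ⊗ₜ[k] (1 : K)
    generalize Coalgebra.comul (R := k) a = z
    induction z with
    | zero => simp
    | tmul p q => simp [hψE, TensorProduct.smul_tmul']
    | add y z hy hz => simp only [map_add, add_tmul, hy, hz]
  obtain ⟨r, hr⟩ := LinearMap.exists_leftInverse_of_injective (φ : Q →ₐ[k] G).toLinearMap
    (LinearMap.ker_eq_bot.2 hφ)
  have hr' : ∀ q, r (φ q) = q := fun q => LinearMap.congr_fun hr q
  refine isLinearlyReductive_of_isNormIntegral (isNormIntegral_of_isIntegral (α := αQ ∘ₗ r ∘ₗ E) ?_ ?_)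
  · intro a
    obtain ⟨q, hq⟩ := hE a
    have e : ∀ z : G ⊗[k] G, slL (αQ ∘ₗ r ∘ₗ E) z = slL (αQ ∘ₗ r) (E.rTensor G z) := by
      intro z
      induction z with
      | zero => simp
      | tmul p q => simp
      | add y z hy hz => simp only [map_add, hy, hz]
    have e' : ∀ z : Q ⊗[k] Q, slL (αQ ∘ₗ r)
        (TensorProduct.map (φ : Q →ₐ[k] G).toLinearMap (φ : Q →ₐ[k] G).toLinearMap z) = φ (slL αQ z) := by
      intro z
      induction z with
      | zero => simp
      | tmul p q => simp [hr']
      | add y z hy hz => simp only [map_add, hy, hz]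
    rw [e, ← comul_slL_comul γ a, show slL γ (Coalgebra.comul (R := k) a) = φ q from hq.symm,
      ← CoalgHomClass.map_comp_comul_apply φ q]
    refine (e' _).trans ?_
    rw [hαQ.right, map_smul, map_one]
    simp [← hq, hr']
  · have h1 : E 1 = φ 1 := by simp [E, γ, Bialgebra.comul_one, Algebra.TensorProduct.one_def, hβ.map_one]
    simp only [LinearMap.comp_apply, h1, hr', hαQ.map_one]

omit [Algebra Q G] [IsScalarTower k Q G] in
theorem isLinearlyReductive_quotient (hφ : Function.Injective φ) (hG : HopfRep.IsLinearlyReductive k G) :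
    HopfRep.IsLinearlyReductive k Q := by
  obtain ⟨α, hα⟩ := exists_isNormIntegral hG
  refine isLinearlyReductive_of_isNormIntegral
    (isNormIntegral_of_isIntegral (α := α ∘ₗ (φ : Q →ₐ[k] G).toLinearMap) (fun q => hφ ?_) ?_)
  · have e' : ∀ z : Q ⊗[k] Q, φ (slL (α ∘ₗ (φ : Q →ₐ[k] G).toLinearMap) z) = slL α
        (TensorProduct.map (φ : Q →ₐ[k] G).toLinearMap (φ : Q →ₐ[k] G).toLinearMap z) := by
      intro z
      induction z with
      | zero => simp
      | tmul p q => simp
      | add y z hy hz => simp only [map_add, hy, hz]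
    rw [e', show TensorProduct.map (φ : Q →ₐ[k] G).toLinearMap (φ : Q →ₐ[k] G).toLinearMap
      (Coalgebra.comul (R := k) q) = Coalgebra.comul (R := k) (φ q) from CoalgHomClass.map_comp_comul_apply φ q,
      hα.right, map_smul, map_one]
    rfl
  · simp [hα.map_one]

include hf hker in
theorem isLinearlyReductive_kernel [Module.FaithfullyFlat Q G]
    (hψ : Function.Surjective ψ) (hG : HopfRep.IsLinearlyReductive k G) :
    HopfRep.IsLinearlyReductive k K := by
  obtain ⟨α, hα⟩ := exists_isNormIntegral hG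
  obtain ⟨θ, hθ⟩ := exists_theta φ hf ψ hker hψ
  rw [isLinearlyReductive_iff_exists_isNormIntegral]
  refine exists_isNormIntegral_of_fixedPt fun V _ _ cV _ π hπs hπ => ?_
  obtain ⟨v₀, hv₀⟩ := hπs 1
  let ρ : V →ₗ[k] V ⊗[k] K := HopfRep.Comod.coact (k := k) (A := K)
  -- `mu` is linear over `Q`
  let μ : G →ₐ[Q] G ⊗[k] K :=
    { (mu ψ).toRingHom with
      commutes' := fun q => by
        rw [IsScalarTower.algebraMap_apply Q G (G ⊗[k] K), hf]
        show mu ψ (φ q) = φ q ⊗ₜ[k] 1
        rw [mu_apply, ← CoalgHomClass.map_comp_comul_apply φ q]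
        have e : ∀ z : Q ⊗[k] Q, TensorProduct.comm k K G ((ψ : G →ₐ[k] K).toLinearMap.rTensor G
            (TensorProduct.map (φ : Q →ₐ[k] G).toLinearMap (φ : Q →ₐ[k] G).toLinearMap z)) =
            φ (slL (Coalgebra.counit (R := k)) z) ⊗ₜ[k] (1 : K) := by
          intro z
          induction z with
          | zero => simp
          | tmul p q => simp [counit_comp_of_ker hker, Algebra.algebraMap_eq_smul_one, TensorProduct.smul_tmul']
          | add y z hy hz => simp only [map_add, add_tmul, hy, hz]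
        refine (e _).trans ?_
        simp [slL, Coalgebra.rTensor_counit_comul] }
  let R : (G ⊗[k] K) ⊗[k] V →ₗ[Q] G ⊗[k] (V ⊗[k] K) :=
    (((TensorProduct.comm k K V).toLinearMap.baseChange G) ∘ₗ
      (TensorProduct.AlgebraTensorModule.assoc k k G G K V).toLinearMap).restrictScalars Q
  let d₁ : G ⊗[k] V →ₗ[Q] G ⊗[k] (V ⊗[k] K) := (ρ.baseChange G).restrictScalars Q
  let d₂ : G ⊗[k] V →ₗ[Q] G ⊗[k] (V ⊗[k] K) :=
    R ∘ₗ TensorProduct.AlgebraTensorModule.map μ.toLinearMap LinearMap.id
  let pG : G ⊗[k] V →ₗ[Q] G :=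
    ((TensorProduct.AlgebraTensorModule.rid k G G).toLinearMap ∘ₗ π.baseChange G).restrictScalars Q
  let P : Submodule Q (G ⊗[k] V) := LinearMap.ker (d₁ - d₂)
  -- the element over `G ⊗[Q] G`
  let cV' : V ⊗[k] K →ₗ[k] G ⊗[Q] (G ⊗[k] V) :=
    (TensorProduct.AlgebraTensorModule.assoc k Q G G G V).toLinearMap.restrictScalars k ∘ₗ
      θ.toLinearMap.rTensor V ∘ₗ (TensorProduct.comm k V K).toLinearMap
  let cW : (V ⊗[k] K) ⊗[k] K →ₗ[k] G ⊗[Q] (G ⊗[k] (V ⊗[k] K)) :=
    (TensorProduct.AlgebraTensorModule.assoc k Q G G G (V ⊗[k] K)).toLinearMap.restrictScalars k ∘ₗ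
      θ.toLinearMap.rTensor (V ⊗[k] K) ∘ₗ (TensorProduct.comm k (V ⊗[k] K) K).toLinearMap
  have hd₁ : ∀ z, d₁.lTensor G (cV' z) = cW (ρ.rTensor K z) := by
    intro z
    induction z with
    | zero => simp
    | tmul v b =>
      simp only [cV', cW, LinearMap.comp_apply, LinearEquiv.coe_coe, TensorProduct.comm_tmul,
        LinearMap.rTensor_tmul, AlgHom.toLinearMap_apply, LinearMap.restrictScalars_apply]
      generalize θ b = t
      induction t with
      | zero => simp
      | tmul p q => simp [d₁]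
      | add y z hy hz => simp only [add_tmul, map_add, hy, hz]
    | add y z hy hz => simp only [map_add, hy, hz]
  let Λ : G ⊗[Q] G →ₐ[G] G ⊗[Q] (G ⊗[k] K) := Algebra.TensorProduct.map (AlgHom.id G G) μ
  let ι : G ⊗[Q] G →ₐ[G] G ⊗[Q] (G ⊗[k] K) := Algebra.TensorProduct.map (AlgHom.id G G)
    ((Algebra.TensorProduct.includeLeft : G →ₐ[G] G ⊗[k] K).restrictScalars Q)
  let jK : K →ₐ[k] G ⊗[Q] (G ⊗[k] K) :=
    ((Algebra.TensorProduct.includeRight : G ⊗[k] K →ₐ[Q] G ⊗[Q] (G ⊗[k] K)).restrictScalars k).comp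
      (Algebra.TensorProduct.includeRight : K →ₐ[k] G ⊗[k] K)
  have hΛ : (Λ.restrictScalars k).comp θ = (toConv jK * toConv ((ι.restrictScalars k).comp θ)).ofConv := by
    let T₂ := G ⊗[Q] (G ⊗[k] K)
    let L : WithConv (K →ₐ[k] T₂) := toConv ((Λ.restrictScalars k).comp θ)
    let M : WithConv (K →ₐ[k] T₂) := toConv jK * toConv ((ι.restrictScalars k).comp θ)
    have h1 : preComp ψ L * FinHopf.postComp (C := G) (Λ.restrictScalars k) pt₂ =
        FinHopf.postComp (C := G) (Λ.restrictScalars k) pt₁ := by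
      rw [show preComp ψ L = FinHopf.postComp (C := G) (Λ.restrictScalars k) (preComp ψ (toConv θ)) from rfl,
        ← map_mul, hθ]
    have h2 : preComp ψ M * FinHopf.postComp (C := G) (Λ.restrictScalars k) pt₂ =
        FinHopf.postComp (C := G) (Λ.restrictScalars k) pt₁ := by
      have e2 : FinHopf.postComp (C := G) (Λ.restrictScalars k) (pt₂ (Q := Q)) =
          FinHopf.postComp (C := G) (ι.restrictScalars k) pt₂ := by
        apply WithConv.ofConv_injective
        ext a
        show Λ (a ⊗ₜ[Q] 1) = ι (a ⊗ₜ[Q] 1)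
        simp [Λ, ι, Algebra.TensorProduct.one_def]
      have e1 : FinHopf.postComp (C := G) (Λ.restrictScalars k) (pt₁ (Q := Q)) =
          preComp ψ (toConv jK) * FinHopf.postComp (C := G) (ι.restrictScalars k) pt₁ := by
        let j : G ⊗[k] K →ₐ[k] T₂ :=
          (Algebra.TensorProduct.includeRight : G ⊗[k] K →ₐ[Q] G ⊗[Q] (G ⊗[k] K)).restrictScalars k
        refine (show FinHopf.postComp (C := G) (Λ.restrictScalars k) (pt₁ (Q := Q)) =
          FinHopf.postComp (C := G) j
            (preComp ψ (toConv (Algebra.TensorProduct.includeRight : K →ₐ[k] G ⊗[k] K)) *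
              toConv (Algebra.TensorProduct.includeLeft : G →ₐ[k] G ⊗[k] K)) from ?_).trans ?_
        · apply WithConv.ofConv_injective
          ext a
          show Λ ((1 : G) ⊗ₜ[Q] a) = (1 : G) ⊗ₜ[Q] mu ψ a
          simp [Λ, μ]
        · rw [map_mul]
          congr 1
      have e3 : preComp ψ M = preComp ψ (toConv jK) *
          FinHopf.postComp (C := G) (ι.restrictScalars k) (preComp ψ (toConv θ)) := map_mul _ _ _
      rw [e3, e2]
      refine (mul_assoc _ _ _).trans (Eq.trans ?_ e1.symm)
      exact congrArg _ ((map_mul _ _ _).symm.trans (congrArg _ hθ))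
    have h3 : preComp ψ L = preComp ψ M := by
      have h := h1.trans h2.symm
      exact mul_right_cancel' h
    ext b
    obtain ⟨g, rfl⟩ := hψ b
    exact DFunLike.congr_fun (congrArg WithConv.ofConv h3) g
  have hd₂ : ∀ z, d₂.lTensor G (cV' z) =
      cW ((TensorProduct.assoc k V K K).symm ((Coalgebra.comul (R := k)).lTensor V z)) := by
    intro z
    induction z with
    | zero => simp
    | tmul v b =>
      let Rv : G ⊗[k] K →ₗ[Q] G ⊗[k] (V ⊗[k] K) :=
        (((TensorProduct.mk k V K) v).baseChange G).restrictScalars Q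
      have hRv : ∀ t : G ⊗[Q] G, d₂.lTensor G
          (TensorProduct.AlgebraTensorModule.assoc k Q G G G V (t ⊗ₜ[k] v)) = Rv.lTensor G (Λ t) := by
        intro t
        induction t with
        | zero => simp
        | tmul p q =>
          have h : ∀ y : G ⊗[k] K, R (y ⊗ₜ[k] v) = Rv y := by
            intro y
            induction y with
            | zero => simp
            | tmul r s => simp [R, Rv]
            | add y z hy hz => simp only [add_tmul, map_add, hy, hz]
          simp [d₂, Λ, h]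
        | add y z hy hz => simp only [add_tmul, map_add, hy, hz]
      simp only [cV', LinearMap.comp_apply, LinearEquiv.coe_coe, TensorProduct.comm_tmul,
        LinearMap.rTensor_tmul, AlgHom.toLinearMap_apply, LinearMap.restrictScalars_apply, LinearMap.lTensor_tmul]
      rw [hRv, show Λ (θ b) = ((Λ.restrictScalars k).comp θ) b from rfl, hΛ, AlgHom.convMul_apply]
      generalize Coalgebra.comul (R := k) b = y
      induction y with
      | zero => simp
      | tmul r s =>
        rw [Algebra.TensorProduct.lift_tmul]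
        simp only [cW, Algebra.TensorProduct.map_tmul, Algebra.TensorProduct.lmul'_apply_tmul,
          TensorProduct.assoc_symm_tmul, LinearMap.comp_apply, LinearEquiv.coe_coe, TensorProduct.comm_tmul,
          LinearMap.rTensor_tmul, AlgHom.toLinearMap_apply, LinearMap.restrictScalars_apply,
          AlgHom.comp_apply, AlgHom.restrictScalars_apply]
        generalize θ s = t
        induction t with
        | zero => simp
        | tmul p q => simp [ι, jK, Rv]
        | add y z hy hz => simp only [add_tmul, map_add, mul_add, hy, hz]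
      | add y z hy hz => simp only [map_add, tmul_add, hy, hz]
    | add y z hy hz => simp only [map_add, hy, hz]
  let y := cV' (ρ v₀)
  have hy : y ∈ LinearMap.range (P.subtype.lTensor G) := by
    have hex : Function.Exact ⇑(P.subtype) ⇑(d₁ - d₂) := fun z => ⟨fun hz => ⟨⟨z, hz⟩, rfl⟩, fun ⟨⟨_, hp⟩, e⟩ => e ▸ hp⟩
    have hex2 := @Module.Flat.lTensor_exact Q G _ _ _ _ P (G ⊗[k] V) (G ⊗[k] (V ⊗[k] K)) _ _ _ _ _ _ P.subtype (d₁ - d₂) hex
    refine (hex2 y).1 ?_
    rw [LinearMap.lTensor_sub, LinearMap.sub_apply, hd₁, hd₂]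
    have hco := LinearMap.congr_fun cV.coassoc v₀
    simp only [LinearMap.comp_apply, LinearEquiv.coe_coe] at hco
    rw [← hco, LinearEquiv.symm_apply_apply, sub_self]
  have hπy : pG.lTensor G y = (1 : G) ⊗ₜ[Q] (1 : G) := by
    have e : ∀ z : V ⊗[k] K, pG.lTensor G (cV' z) = θ (slL π z) := by
      intro z
      induction z with
      | zero => simp
      | tmul v b =>
        simp only [cV', LinearMap.comp_apply, LinearEquiv.coe_coe, TensorProduct.comm_tmul,
          LinearMap.rTensor_tmul, AlgHom.toLinearMap_apply, LinearMap.restrictScalars_apply, slL_tmul, map_smul]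
        generalize θ b = t
        induction t with
        | zero => simp
        | tmul p q => simp [pG, TensorProduct.tmul_smul]
        | add y z hy hz => simp only [add_tmul, map_add, smul_add, hy, hz]
      | add y z hy hz => simp only [map_add, hy, hz]
    rw [e]
    have h : slL π (ρ v₀) = (1 : K) := by
      have h' := congrArg (TensorProduct.lid k K) (LinearMap.congr_fun hπ v₀)
      simp only [LinearMap.comp_apply, LinearMap.flip_apply, TensorProduct.mk_apply, TensorProduct.lid_tmul,
        hv₀, one_smul] at h'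
      exact h'
    rw [h, map_one, Algebra.TensorProduct.one_def]
  obtain ⟨x, hx, hx1⟩ : ∃ x ∈ P, pG x = 1 := by
    let R₀ : Submodule Q G := P.map pG
    obtain ⟨y', hy'⟩ := hy
    have h0 : R₀.mkQ.lTensor G (pG.lTensor G y) = 0 := by
      rw [← hy', ← LinearMap.comp_apply, ← LinearMap.lTensor_comp, ← LinearMap.comp_apply, ← LinearMap.lTensor_comp]
      rw [show (R₀.mkQ ∘ₗ pG) ∘ₗ P.subtype = 0 from LinearMap.ext fun p =>
        (Submodule.Quotient.mk_eq_zero _).2 ⟨_, p.2, rfl⟩]
      simp
    rw [hπy, LinearMap.lTensor_tmul] at h0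
    have h3 : R₀.mkQ 1 = 0 := Module.FaithfullyFlat.tensorProduct_mk_injective (A := Q) (B := G) (G ⧸ R₀)
      (show (1 : G) ⊗ₜ[Q] R₀.mkQ 1 = (1 : G) ⊗ₜ[Q] 0 by rw [h0, tmul_zero])
    obtain ⟨x, hx, hx'⟩ := (Submodule.Quotient.mk_eq_zero _).1 h3
    exact ⟨x, hx, hx'⟩
  let av : G ⊗[k] V →ₗ[k] V := (TensorProduct.lid k V).toLinearMap ∘ₗ α.rTensor V
  let avW : G ⊗[k] (V ⊗[k] K) →ₗ[k] V ⊗[k] K :=
    (TensorProduct.lid k (V ⊗[k] K)).toLinearMap ∘ₗ α.rTensor (V ⊗[k] K)
  refine ⟨av x, ?_, ?_⟩
  · show ρ (av x) = av x ⊗ₜ[k] (1 : K)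
    have e1 : ∀ z, ρ (av z) = avW (d₁ z) := by
      intro z
      induction z with
      | zero => simp
      | tmul a v => simp [av, avW, d₁]
      | add y z hy hz => simp only [map_add, hy, hz]
    have e2 : ∀ z, avW (d₂ z) = av z ⊗ₜ[k] (1 : K) := by
      intro z
      induction z with
      | zero => simp
      | tmul a v =>
        have e : d₂ (a ⊗ₜ[k] v) = R (mu ψ a ⊗ₜ[k] v) := by simp [d₂, μ]
        have e' : ∀ z : G ⊗[k] G,
            avW (R (TensorProduct.comm k K G ((ψ : G →ₐ[k] K).toLinearMap.rTensor G z) ⊗ₜ[k] v)) =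
              v ⊗ₜ[k] ψ (slR α z) := by
          intro z
          induction z with
          | zero => simp
          | tmul p q => simp [avW, R, TensorProduct.tmul_smul]
          | add y z hy hz => simp only [map_add, add_tmul, tmul_add, hy, hz]
        rw [e, mu_apply, e', hα.left, map_smul, map_one]
        simp [av, TensorProduct.smul_tmul]
      | add y z hy hz => simp only [map_add, add_tmul, hy, hz]
    have hx' : d₁ x = d₂ x := sub_eq_zero.1 (by rw [← LinearMap.sub_apply]; exact hx)
    rw [e1, hx', e2]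
  · have e : ∀ z, π (av z) = α (pG z) := by
      intro z
      induction z with
      | zero => simp
      | tmul a v => simp [av, pG, mul_comm]
      | add y z hy hz => simp only [map_add, hy, hz]
    rw [e, hx1, hα.map_one]
    exact one_ne_zero

end Groth.Agent.HopfFF
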