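import Groth.Agent.HopfFF.SubHopf
import Mathlib.RingTheory.Flat.EquationalCriterion

/-!
# A commutative Hopf algebra over a field is faithfully flat over every Hopf subalgebra
-/

set_option autoImplicit false
universe u v w w'

open TensorProduct

namespace Groth.Agent.HopfFF

variable {k : Type u} [Field k]

theorem finiteType_GLn (n : ℕ) : Algebra.FiniteType k (CoordGrp.GLn n k) :=
  haveI : Algebra.FiniteType k (CoordGrp.GLb n k) :=
    inferInstanceAs (Algebra.FiniteType k (MvPolynomial (CoordGrp.GLPoly.Idx n) k))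
  Algebra.FiniteType.of_surjective (CoordGrp.GLn.mk n k) Ideal.Quotient.mk_surjective

/-- factoring a bialgebra map through an injective one -/
theorem exists_factor {X : Type v} [CommRing X] [HopfAlgebra k X] {Y : Type w} [CommRing Y] [HopfAlgebra k Y]
    {Z : Type w'} [CommRing Z] [HopfAlgebra k Z] (j' : Y →ₐc[k] Z) (hj' : Function.Injective j')
    (j : X →ₐc[k] Z) (h : ∀ x, ∃ y, j' y = j x) : ∃ ι : X →ₐc[k] Y, ∀ x, j' (ι x) = j x := by
  let e := AlgEquiv.ofInjective (j' : Y →ₐ[k] Z) hj'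
  let ιA : X →ₐ[k] Y := e.symm.toAlgHom.comp ((j : X →ₐ[k] Z).codRestrict (j' : Y →ₐ[k] Z).range h)
  have hι : ∀ x, j' (ιA x) = j x := fun x =>
    congrArg Subtype.val (e.apply_symm_apply ⟨j x, h x⟩)
  refine ⟨BialgHom.ofAlgHom ιA (AlgHom.ext fun x => ?_) (AlgHom.ext fun x => ?_), hι⟩
  · show Coalgebra.counit (R := k) (ιA x) = Coalgebra.counit (R := k) x
    rw [← CoalgHomClass.counit_comp_apply j' (ιA x), hι, CoalgHomClass.counit_comp_apply]
  · show Algebra.TensorProduct.map ιA ιA (Coalgebra.comul (R := k) x) = Coalgebra.comul (R := k) (ιA x)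
    have hinj : Function.Injective
        (TensorProduct.map (j' : Y →ₐ[k] Z).toLinearMap (j' : Y →ₐ[k] Z).toLinearMap) := by
      rw [← LinearMap.lTensor_comp_rTensor]
      exact (Module.Flat.lTensor_preserves_injective_linearMap _ hj').comp
        (Module.Flat.rTensor_preserves_injective_linearMap _ hj')
    apply hinj
    refine Eq.trans ?_ (CoalgHomClass.map_comp_comul_apply j' (ιA x)).symm
    rw [hι, ← CoalgHomClass.map_comp_comul_apply j x]
    generalize Coalgebra.comul (R := k) x = z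
    induction z with
    | zero => simp
    | tmul p q => simp [hι]
    | add y z hy hz => simp only [map_add, hy, hz]

/-- finite pieces of an injective map of Hopf algebras -/
theorem exists_finite_model {B : Type v} [CommRing B] [HopfAlgebra k B] {A : Type w} [CommRing A] [HopfAlgebra k A]
    (f : B →ₐc[k] A) (hf : Function.Injective f) (s : Finset B) (t : Finset A) :
    ∃ (B₀ : Type u) (_ : CommRing B₀) (_ : HopfAlgebra k B₀) (A₀ : Type u) (_ : CommRing A₀)
      (_ : HopfAlgebra k A₀) (jB : B₀ →ₐc[k] B) (jA : A₀ →ₐc[k] A) (f₀ : B₀ →ₐc[k] A₀),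
      (f₀ : B₀ →+* A₀).FaithfullyFlat ∧ (∀ x, jA (f₀ x) = f (jB x)) ∧ Function.Injective jA ∧
      (∀ x ∈ s, ∃ y, jB y = x) ∧ ∀ x ∈ t, ∃ y, jA y = x := by
  classical
  obtain ⟨n, π, hπ⟩ := exists_glHom_range k B s
  haveI := finiteType_GLn (k := k) n
  haveI := isHopfIdeal_ker π
  let jB := kerLift π
  obtain ⟨T, hT⟩ : (((f : B →ₐ[k] A).comp (π : CoordGrp.GLn n k →ₐ[k] B)).range).FG := by
    rw [← Algebra.map_top]
    exact (Algebra.FiniteType.out : (⊤ : Subalgebra k (CoordGrp.GLn n k)).FG).map _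
  obtain ⟨m, π', hπ'⟩ := exists_glHom_range k A (t ∪ T)
  haveI := finiteType_GLn (k := k) m
  haveI := isHopfIdeal_ker π'
  let jA := kerLift π'
  haveI : Algebra.FiniteType k (CoordGrp.GLn n k ⧸ RingHom.ker (π : CoordGrp.GLn n k →ₐ[k] B)) :=
    Algebra.FiniteType.of_surjective (Ideal.Quotient.mkₐ k _) (Ideal.Quotient.mkₐ_surjective k _)
  haveI : Algebra.FiniteType k (CoordGrp.GLn m k ⧸ RingHom.ker (π' : CoordGrp.GLn m k →ₐ[k] A)) :=
    Algebra.FiniteType.of_surjective (Ideal.Quotient.mkₐ k _) (Ideal.Quotient.mkₐ_surjective k _)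
  have hle : ∀ x, ∃ y, jA y = (f.comp jB) x := by
    intro x
    obtain ⟨x, rfl⟩ := Ideal.Quotient.mk_surjective x
    have h1 : f (π x) ∈ Algebra.adjoin k (T : Set A) := hT.symm ▸ ⟨x, rfl⟩
    have h2 := (Algebra.adjoin_le (S := (jA : (CoordGrp.GLn m k ⧸ RingHom.ker (π' : CoordGrp.GLn m k →ₐ[k] A)) →ₐ[k] A).range) fun y hy => by
      obtain ⟨z, hz⟩ := hπ' y (Finset.mem_union_right _ hy)
      exact ⟨Ideal.Quotient.mk _ z, hz⟩) h1
    exact h2
  obtain ⟨f₀, hf₀⟩ := exists_factor jA (kerLift_injective π') (f.comp jB) hle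
  have hf₀inj : Function.Injective f₀ := fun x y hxy => kerLift_injective π (hf (by
    have := congrArg jA hxy
    rw [hf₀, hf₀] at this
    exact this))
  refine ⟨_, inferInstance, inferInstance, _, inferInstance, inferInstance, jB, jA, f₀,
    faithfullyFlat_of_injective f₀ hf₀inj, hf₀, kerLift_injective π', fun x hx => ?_, fun x hx => ?_⟩
  · obtain ⟨y, hy⟩ := hπ x hx
    exact ⟨Ideal.Quotient.mk _ y, hy⟩
  · obtain ⟨y, hy⟩ := hπ' x (Finset.mem_union_left _ hx)
    exact ⟨Ideal.Quotient.mk _ y, hy⟩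

theorem faithfullyFlat_of_injective' {B : Type v} [CommRing B] [HopfAlgebra k B] {A : Type w} [CommRing A]
    [HopfAlgebra k A] (f : B →ₐc[k] A) (hf : Function.Injective f) : (f : B →+* A).FaithfullyFlat := by
  classical
  letI : Algebra B A := (f : B →+* A).toAlgebra
  have halg : ∀ b : B, algebraMap B A b = f b := fun _ => rfl
  haveI : Module.Flat B A := by
    rw [Module.Flat.iff_forall_isTrivialRelation]
    intro l b a hrel
    obtain ⟨B₀, _, _, A₀, _, _, jB, jA, f₀, hff, hcomm, hjA, hb, ha⟩ :=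
      exists_finite_model f hf (Finset.univ.image b) (Finset.univ.image a)
    choose b₀ hb₀ using fun i => hb (b i) (Finset.mem_image_of_mem _ (Finset.mem_univ i))
    choose a₀ ha₀ using fun i => ha (a i) (Finset.mem_image_of_mem _ (Finset.mem_univ i))
    algebraize [(f₀ : B₀ →+* A₀)]
    have hrel₀ : ∑ i, b₀ i • a₀ i = 0 := by
      refine hjA ?_
      rw [map_sum, map_zero, ← hrel]
      refine Finset.sum_congr rfl fun i _ => ?_
      rw [Algebra.smul_def, Algebra.smul_def, map_mul, halg, ← hb₀ i, ← ha₀ i, ← hcomm]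
      rfl
    obtain ⟨κ, c, y, hy, hc⟩ := (Module.Flat.iff_forall_isTrivialRelation.1
      (inferInstance : Module.Flat B₀ A₀)) hrel₀
    refine ⟨κ, fun i j => jB (c i j), fun j => jA (y j), fun i => ?_, fun j => ?_⟩
    · rw [← ha₀ i, hy i, map_sum]
      refine Finset.sum_congr rfl fun j _ => ?_
      rw [Algebra.smul_def, Algebra.smul_def, map_mul, halg, ← hcomm]
      rfl
    · have := congrArg jB (hc j)
      rw [map_sum, map_zero] at this
      simpa [hb₀] using this
  rw [← RingHom.algebraMap_toAlgebra (f : B →+* A), RingHom.faithfullyFlat_algebraMap_iff]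
  refine ⟨fun m hm htop => hm.ne_top ?_⟩
  have h1 : (1 : A) ∈ m.map (algebraMap B A) := by
    have h : (1 : A) ∈ (m • ⊤ : Submodule B A) := htop.ge Submodule.mem_top
    rw [Ideal.smul_top_eq_map] at h
    exact h
  obtain ⟨T, hT, hT1⟩ := Submodule.mem_span_finite_of_mem_span (show (1 : A) ∈ Submodule.span A (algebraMap B A '' m) from h1)
  obtain ⟨c, -, hc⟩ := Submodule.mem_span_finset.1 hT1
  choose! pre hpre hpre' using fun x (hx : x ∈ T) => hT hx
  obtain ⟨B₀, _, _, A₀, _, _, jB, jA, f₀, hff, hcomm, hjA, hb, ha⟩ :=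
    exists_finite_model f hf (T.image pre) (T.image c)
  choose! y hy using fun x (hx : x ∈ T) => hb (pre x) (Finset.mem_image_of_mem _ hx)
  choose! z hz using fun x (hx : x ∈ T) => ha (c x) (Finset.mem_image_of_mem _ hx)
  algebraize [(f₀ : B₀ →+* A₀)]
  let N : Ideal B₀ := Ideal.span (y '' (T : Set A))
  have h2 : (1 : A₀) ∈ N.map (algebraMap B₀ A₀) := by
    have e : ∑ x ∈ T, z x * algebraMap B₀ A₀ (y x) = 1 := by
      refine hjA ?_
      rw [map_sum, map_one, ← hc]
      refine Finset.sum_congr rfl fun x hx => ?_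
      show jA (z x * f₀ (y x)) = _
      rw [map_mul, hz x hx, hcomm, hy x hx, smul_eq_mul, show f (pre x) = x from hpre' x hx]
    rw [← e]
    exact Ideal.sum_mem _ fun x hx => Ideal.mul_mem_left _ _
      (Ideal.mem_map_of_mem _ (Ideal.subset_span ⟨x, hx, rfl⟩))
  have h3 : (1 : B₀) ∈ N := by
    rw [← Ideal.comap_map_eq_self_of_faithfullyFlat (B := A₀) N, Ideal.mem_comap, map_one]
    exact h2
  have h4 : N ≤ m.comap (jB : B₀ →+* B) := Ideal.span_le.2 (by
    rintro _ ⟨x, hx, rfl⟩
    show jB (y x) ∈ m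
    rw [hy x hx]
    exact hpre x hx)
  have h5 : jB (1 : B₀) ∈ m := h4 h3
  rw [map_one] at h5
  exact (Ideal.eq_top_iff_one _).2 h5

end Groth.Agent.HopfFF
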