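import Groth.Agent.HopfFF.Galois
import Mathlib.RingTheory.HopfAlgebra.Quotient
import Mathlib.RingTheory.Flat.Basic

/-!
# The kernel of a map of commutative Hopf algebras is a Hopf ideal; the map factors through the quotient
-/

set_option autoImplicit false
universe u v w

open TensorProduct WithConv

namespace Groth.Agent.HopfFF

variable {k : Type u} [Field k] {A : Type v} [CommRing A] [HopfAlgebra k A]
  {B : Type w} [CommRing B] [HopfAlgebra k B]

theorem map_antipode (f : A →ₐc[k] B) (a : A) :
    f (HopfAlgebra.antipode k a) = HopfAlgebra.antipode k (f a) := by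
  have h : FinHopf.postComp (C := A) (f : A →ₐ[k] B) (toConv (AlgHom.id k A)) =
      preComp f (toConv (AlgHom.id k B)) := rfl
  have h' := congrArg (·⁻¹) h
  simp only [← map_inv] at h'
  exact DFunLike.congr_fun (congrArg WithConv.ofConv h') a

theorem isHopfIdeal_ker (f : A →ₐc[k] B) : (RingHom.ker (f : A →ₐ[k] B)).IsHopfIdeal k := by
  let I := RingHom.ker (f : A →ₐ[k] B)
  let g : A ⧸ (I.restrictScalars k) →ₗ[k] B :=
    (I.restrictScalars k).liftQ (f : A →ₐ[k] B).toLinearMap fun x hx => hx
  have hg : Function.Injective g := LinearMap.ker_eq_bot.1 (Submodule.ker_liftQ_eq_bot _ _ _ fun x hx => hx)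
  refine { counit_eq_zero := fun x hx => ?_, map_mkQ_comul_eq_zero := fun x hx => ?_, antipode_mem := fun x hx => ?_ }
  · rw [← CoalgHomClass.counit_comp_apply f x, show f x = 0 from hx, map_zero]
  · have hinj : Function.Injective (TensorProduct.map g g) := by
      rw [show TensorProduct.map g g = g.lTensor B ∘ₗ g.rTensor (A ⧸ (I.restrictScalars k)) from (LinearMap.lTensor_comp_rTensor _ _ _).symm]
      exact (Module.Flat.lTensor_preserves_injective_linearMap g hg).comp
        (Module.Flat.rTensor_preserves_injective_linearMap g hg)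
    apply hinj
    rw [map_zero, ← LinearMap.comp_apply, ← TensorProduct.map_comp, Submodule.liftQ_mkQ]
    have h := CoalgHomClass.map_comp_comul_apply f x
    rw [show f x = 0 from hx, map_zero] at h
    exact h
  · show f (HopfAlgebra.antipode k x) = 0
    rw [map_antipode, show f x = 0 from hx, map_zero]

/-- the induced map on the quotient by the kernel -/
noncomputable def kerLift (f : A →ₐc[k] B) :
    letI := isHopfIdeal_ker f
    (A ⧸ RingHom.ker (f : A →ₐ[k] B)) →ₐc[k] B :=
  letI := isHopfIdeal_ker f
  BialgHom.ofAlgHom (Ideal.kerLiftAlg (f : A →ₐ[k] B))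
    (by
      refine Ideal.Quotient.algHom_ext _ (AlgHom.ext fun a => ?_)
      simp)
    (by
      refine Ideal.Quotient.algHom_ext _ (AlgHom.ext fun a => ?_)
      show Algebra.TensorProduct.map _ _ (Coalgebra.comul (R := k) (Ideal.Quotient.mk _ a)) =
        Coalgebra.comul (R := k) (f a)
      rw [Bialgebra.Quotient.comul_mk, ← CoalgHomClass.map_comp_comul_apply f a]
      generalize Coalgebra.comul (R := k) a = z
      induction z with
      | zero => simp
      | tmul p q => simp
      | add y z hy hz => simp only [map_add, hy, hz])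

theorem kerLift_mk (f : A →ₐc[k] B) (a : A) :
    kerLift f (Ideal.Quotient.mk (RingHom.ker (f : A →ₐ[k] B)) a) = f a := rfl

theorem kerLift_injective (f : A →ₐc[k] B) : Function.Injective (kerLift f) :=
  Ideal.kerLiftAlg_injective (f : A →ₐ[k] B)

end Groth.Agent.HopfFF
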