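import Groth.Agent.HopfFF.Flat
import Groth.Agent.WEtale.Descent
import Mathlib.FieldTheory.IsAlgClosed.AlgebraicClosure
import Mathlib.RingTheory.Bialgebra.TensorProduct
import Mathlib.RingTheory.HopfAlgebra.TensorProduct
import Mathlib.RingTheory.RingHom.FaithfullyFlat
import Mathlib.RingTheory.Flat.FaithfullyFlat.Algebra

/-!
# A commutative Hopf algebra of finite type is faithfully flat over its Hopf subalgebras
-/

set_option autoImplicit false
universe u v w

open TensorProduct

namespace Groth.Agent.HopfFF

theorem faithfullyFlat_comp {R : Type*} {S : Type*} {T : Type*} [CommRing R] [CommRing S] [CommRing T]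
    {f : R →+* S} {g : S →+* T} (hf : f.FaithfullyFlat) (hg : g.FaithfullyFlat) : (g.comp f).FaithfullyFlat := by
  algebraize [f, g, g.comp f]
  rw [← RingHom.algebraMap_toAlgebra (g.comp f), RingHom.faithfullyFlat_algebraMap_iff]
  exact Module.FaithfullyFlat.trans R S T

theorem faithfullyFlat_of_injective {k : Type u} [Field k] {A : Type v} [CommRing A] [HopfAlgebra k A]
    {B : Type w} [CommRing B] [HopfAlgebra k B] [Algebra.FiniteType k A] [Algebra.FiniteType k B]
    (f : A →ₐc[k] B) (hinj : Function.Injective f) : (f : A →+* B).FaithfullyFlat := by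
  let K := AlgebraicClosure k
  let fK : K ⊗[k] A →ₐc[K] K ⊗[k] B := Bialgebra.TensorProduct.map (BialgHom.id K K) f
  have hfK : Function.Injective fK := by
    have h := Module.Flat.lTensor_preserves_injective_linearMap (M := K) (f : A →ₐ[k] B).toLinearMap hinj
    have e : ∀ x, fK x = (f : A →ₐ[k] B).toLinearMap.lTensor K x := fun x => by
      induction x with
      | zero => simp
      | tmul c a => simp [fK]
      | add x y hx hy => simp only [map_add, hx, hy]
    intro x y hxy
    exact h (by rw [← e, ← e, hxy])
  have hK := faithfullyFlat_of_injective_isAlgClosed fK hfK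
  let iA : A →+* K ⊗[k] A := (Algebra.TensorProduct.includeRight : A →ₐ[k] K ⊗[k] A).toRingHom
  let iB : B →+* K ⊗[k] B := (Algebra.TensorProduct.includeRight : B →ₐ[k] K ⊗[k] B).toRingHom
  have hiA : iA.FaithfullyFlat := by
    have e : iA = (Algebra.TensorProduct.comm k A K).toRingEquiv.toRingHom.comp (algebraMap A (A ⊗[k] K)) :=
      RingHom.ext fun a => by simp [iA]
    rw [e]
    have h1 : (algebraMap A (A ⊗[k] K)).FaithfullyFlat := RingHom.faithfullyFlat_algebraMap_iff.2 inferInstance
    have h2 : (Algebra.TensorProduct.comm k A K).toRingEquiv.toRingHom.FaithfullyFlat :=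
      RingHom.FaithfullyFlat.of_bijective (Algebra.TensorProduct.comm k A K).bijective
    exact faithfullyFlat_comp h1 h2
  have hiB : iB.FaithfullyFlat := by
    have e : iB = (Algebra.TensorProduct.comm k B K).toRingEquiv.toRingHom.comp (algebraMap B (B ⊗[k] K)) :=
      RingHom.ext fun a => by simp [iB]
    rw [e]
    have h1 : (algebraMap B (B ⊗[k] K)).FaithfullyFlat := RingHom.faithfullyFlat_algebraMap_iff.2 inferInstance
    have h2 : (Algebra.TensorProduct.comm k B K).toRingEquiv.toRingHom.FaithfullyFlat :=
      RingHom.FaithfullyFlat.of_bijective (Algebra.TensorProduct.comm k B K).bijective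
    exact faithfullyFlat_comp h1 h2
  have hsq : iB.comp (f : A →+* B) = (fK : K ⊗[k] A →+* K ⊗[k] B).comp iA :=
    RingHom.ext fun a => by simp [iA, iB, fK]
  have hC : (iB.comp (f : A →+* B)).FaithfullyFlat := by
    rw [hsq]; exact faithfullyFlat_comp hiA hK
  rw [RingHom.FaithfullyFlat.iff_flat_and_comap_surjective]
  refine ⟨?_, fun p => ?_⟩
  · algebraize [(f : A →+* B), iB, iB.comp (f : A →+* B)]
    exact Groth.Agent.WEtale.flat_of_faithfullyFlat_tower A B (K ⊗[k] B)
  · obtain ⟨q, hq⟩ := (RingHom.FaithfullyFlat.iff_flat_and_comap_surjective.1 hC).2 p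
    exact ⟨PrimeSpectrum.comap iB q, by rw [← hq, PrimeSpectrum.comap_comp_apply]⟩

end Groth.Agent.HopfFF
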