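import Groth.Agent.Comod.GL
import Groth.Agent.HopfFF.Main
import Groth.Agent.HopfFF.Kernel
import Mathlib.RingTheory.HopfAlgebra.Quotient

/-!
# Hopf subalgebras of finite type of a commutative Hopf algebra
-/

set_option autoImplicit false
universe u v

open scoped TensorProduct

namespace Groth.Agent.HopfFF

open Groth.Agent.Comod

/-- every finite set lies in the image of some general linear group -/
theorem exists_glHom_range (k : Type u) [Field k] (A : Type v) [CommRing A] [HopfAlgebra k A] (s : Finset A) :
    ∃ (n : ℕ) (π : CoordGrp.GLn n k →ₐc[k] A), ∀ x ∈ s, x ∈ (π : CoordGrp.GLn n k →ₐ[k] A).range := by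
  classical
    obtain ⟨M, hfin, hsM, hM⟩ := exists_finite_subcomod (k := k) (A := A) (V := A) (s : Set A) s.finite_toSet
  letI := ComodSub.Comod.restr (HopfRep.Comod.regular k A) M hM
  let b := Module.finBasis k M
  let n := Module.finrank k M
  let ρ := HopfRep.Comod.coact (k := k) (A := A) (V := M)
  let a : Matrix (Fin n) (Fin n) A := fun i j => slL (b.coord i) (ρ (b j))
  have hexp : ∀ x : M ⊗[k] A, x = ∑ i, b i ⊗ₜ[k] slL (b.coord i) x := by
    intro x
    induction x with
    | zero => simp
    | tmul p q =>
      conv_lhs => rw [← b.sum_repr p, TensorProduct.sum_tmul]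
      exact Finset.sum_congr rfl fun i _ => by simp [TensorProduct.smul_tmul]
    | add y z hy hz =>
      conv_lhs => rw [hy, hz, ← Finset.sum_add_distrib]
      simp [TensorProduct.tmul_add]
  have hΔ : ∀ i j, Coalgebra.comul (R := k) (a i j) = ∑ l, a i l ⊗ₜ[k] a l j := by
    intro i j
    have h := LinearMap.congr_fun (isComodHom_coeffMap (C := A) (V := M) (b.coord i)) (b j)
    simp only [LinearMap.comp_apply] at h
    show Coalgebra.comul (R := k) (coeffMap (C := A) (b.coord i) (b j)) = _
    rw [show Coalgebra.comul (R := k) (coeffMap (C := A) (b.coord i) (b j)) = _ from h]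
    conv_lhs => rw [hexp (HopfRep.Comod.coact (k := k) (A := A) (b j))]
    rw [map_sum]
    rfl
  have hε : ∀ i j, Coalgebra.counit (R := k) (a i j) = if i = j then 1 else 0 := by
    intro i j
    show Coalgebra.counit (R := k) (coeffMap (C := A) (b.coord i) (b j)) = _
    rw [counit_coeffMap]
    simp [Module.Basis.coord_apply, Finsupp.single_apply, eq_comm]
  refine ⟨n, glHom a hΔ hε, fun x hx => ?_⟩
  have hmem : ∀ m : M, (m : A) ∈ (glHom a hΔ hε : CoordGrp.GLn n k →ₐ[k] A).range := by
    intro m
    rw [← b.sum_repr m, Submodule.coe_sum]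
    refine Subalgebra.sum_mem _ fun j _ => ?_
    rw [Submodule.coe_smul]
    refine Subalgebra.smul_mem _ ?_ _
    have hbj : (b j : A) = ∑ i, Coalgebra.counit (R := k) (b i : A) • a i j := by
      have h0 := slL_counit_comul (k := k) (b j : A)
      have h1 := ComodSub.restr_coact_coe (HopfRep.Comod.regular k A) M hM (b j)
      rw [show Coalgebra.comul (R := k) (b j : A) = M.subtype.rTensor A (ρ (b j)) from h1.symm,
        hexp (ρ (b j))] at h0
      simp only [map_sum, LinearMap.rTensor_tmul, slL_tmul, Submodule.subtype_apply] at h0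
      exact h0.symm
    rw [hbj]
    exact Subalgebra.sum_mem _ fun i _ => Subalgebra.smul_mem _
      ((AlgHom.mem_range _).2 ⟨CoordGrp.GLn.X i j, glHom_X a hΔ hε i j⟩) _
  exact hmem ⟨x, hsM hx⟩

end Groth.Agent.HopfFF
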