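import Mathlib.RingTheory.Artinian.Ring
import Mathlib.RingTheory.Noetherian.Nilpotent
import Mathlib.RingTheory.Ideal.Quotient.Basic
import Mathlib.Algebra.Module.Torsion.Basic
import Mathlib.RingTheory.Flat.Basic
import Mathlib.RingTheory.Nilpotent.Lemmas
import Mathlib.LinearAlgebra.TensorProduct.Basis
import Mathlib.LinearAlgebra.Basis.VectorSpace
import Mathlib.LinearAlgebra.FreeModule.Basic
import Mathlib.RingTheory.TensorProduct.Free
import Mathlib.RingTheory.LocalRing.ResidueField.Basic

/-!
# Descent of freeness along injective extensions of rings with nilpotent maximal ideal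
-/

set_option autoImplicit false
universe u v w

open TensorProduct

namespace Groth.Agent.HopfFF

/-- Over an artinian local ring, a module is free as soon as its base change to some algebra
containing the ring is projective. -/
theorem free_of_projective_baseChange {A : Type u} [CommRing A] [IsLocalRing A] [IsArtinianRing A]
    (B : Type v) [CommRing B] [Algebra A B] (hinj : Function.Injective (algebraMap A B))
    (M : Type w) [AddCommGroup M] [Module A M] [Module.Projective B (B ⊗[A] M)] : Module.Free A M := by
  classical
  let m := IsLocalRing.maximalIdeal A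
  obtain ⟨e, he⟩ : IsNilpotent m := by
    have h := IsArtinianRing.isNilpotent_jacobson_bot (R := A)
    rwa [IsLocalRing.jacobson_eq_maximalIdeal ⊥ bot_ne_top] at h
  -- lift a basis of the special fibre
  let k := A ⧸ m
  letI : Field k := Ideal.Quotient.field m
  let V := M ⧸ (m • ⊤ : Submodule A M)
  let b := Module.Basis.ofVectorSpace k V
  let ι := Module.Basis.ofVectorSpaceIndex k V
  choose x hx using fun i : ι => Submodule.mkQ_surjective (m • ⊤ : Submodule A M) (b i)
  let π : (ι →₀ A) →ₗ[A] M := Finsupp.linearCombination A x
  have hsurj : Function.Surjective π := by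
    have h1 : ∀ y : M, y ∈ LinearMap.range π ⊔ m • ⊤ := by
      intro y
      have hy : (m • ⊤ : Submodule A M).mkQ y ∈ Submodule.span A (Set.range b) := by
        have h := b.span_eq.ge (Submodule.mem_top (x := (m • ⊤ : Submodule A M).mkQ y))
        rw [← Submodule.restrictScalars_mem A, Submodule.restrictScalars_span A k Ideal.Quotient.mk_surjective] at h
        exact h
      rw [show Set.range b = (m • ⊤ : Submodule A M).mkQ '' Set.range x by
        rw [← Set.range_comp]; exact congrArg Set.range (funext fun i => (hx i).symm),
        Submodule.span_image] at hy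
      obtain ⟨z, hz, hzy⟩ := hy
      refine Submodule.mem_sup.2 ⟨z, by rwa [Finsupp.range_linearCombination], y - z, ?_, by abel⟩
      rw [← Submodule.Quotient.mk_eq_zero, Submodule.Quotient.mk_sub, sub_eq_zero]
      exact hzy.symm
    have h2 : ∀ n, LinearMap.range π ⊔ m ^ n • ⊤ = ⊤ := by
      intro n
      induction n with
      | zero => simp
      | succ n ih =>
        rw [eq_top_iff]
        calc (⊤ : Submodule A M) = LinearMap.range π ⊔ m • ⊤ := (eq_top_iff.2 fun y _ => h1 y).symm
          _ ≤ LinearMap.range π ⊔ m ^ (n + 1) • ⊤ := sup_le le_sup_left (by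
              conv_lhs => rw [← ih, Submodule.smul_sup]
              refine sup_le (le_sup_of_le_left (Submodule.smul_le_right)) (le_sup_of_le_right ?_)
              rw [← Submodule.mul_smul, pow_succ'])
    have h3 := h2 e
    rw [he, Ideal.zero_eq_bot, Submodule.bot_smul, sup_bot_eq] at h3
    exact LinearMap.range_eq_top.1 h3
  -- coordinate functionals
  let φ : ι → M →ₗ[A] k := fun j => ((b.coord j).restrictScalars A).comp (m • ⊤ : Submodule A M).mkQ
  have hφ : ∀ i j, φ j (x i) = if i = j then 1 else 0 := fun i j => by
    show b.coord j ((m • ⊤ : Submodule A M).mkQ (x i)) = _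
    rw [hx i, Module.Basis.coord_apply, Module.Basis.repr_self, Finsupp.single_apply]
  let πB : B ⊗[A] (ι →₀ A) →ₗ[B] B ⊗[A] M := π.baseChange B
  have hπB : Function.Surjective πB := LinearMap.lTensor_surjective B hsurj
  let bB : Module.Basis ι B (B ⊗[A] (ι →₀ A)) := Algebra.TensorProduct.basis B Finsupp.basisSingleOne
  -- coordinates of the kernel lie in every prime
  have hnil : ∀ z, πB z = 0 → ∀ j, IsNilpotent (bB.repr z j) := by
    intro z hz j
    rw [← mem_nilradical, nilradical_eq_sInf, Ideal.mem_sInf]
    intro q hq
    have hq' : q.IsPrime := hq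
    have hmq : m ≤ q.comap (algebraMap A B) := by
      intro a ha
      have hn : IsNilpotent a := ⟨e, by
        have := Ideal.pow_mem_pow ha e
        rwa [he, Ideal.zero_eq_bot, Ideal.mem_bot] at this⟩
      exact nilradical_le_prime _ (mem_nilradical.2 hn)
    let g : k →ₗ[A] B ⧸ q := Submodule.liftQ m ((Ideal.Quotient.mkₐ A q).toLinearMap.comp (Algebra.linearMap A B))
      fun a ha => Ideal.Quotient.eq_zero_iff_mem.2 (hmq ha)
    let ψ : B ⊗[A] M →ₗ[A] B ⧸ q := TensorProduct.lift ((LinearMap.mul A (B ⧸ q)).compl₁₂
      (Ideal.Quotient.mkₐ A q).toLinearMap (g.comp (φ j)))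
    have key : ∀ w, ψ (πB w) = Ideal.Quotient.mk q (bB.repr w j) := by
      intro w
      induction w with
      | zero => simp
      | tmul c f =>
        induction f using Finsupp.induction_linear with
        | zero => simp
        | add f f' hf hf' => simp only [TensorProduct.tmul_add, map_add, Finsupp.add_apply, hf, hf']
        | single i a =>
          rw [show bB.repr (c ⊗ₜ[A] Finsupp.single i a) j = a • ((if i = j then c else 0) : B) by
            simp [bB, Algebra.TensorProduct.basis_repr_tmul, Finsupp.single_apply]; split_ifs <;> simp [Algebra.smul_def, mul_comm]]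
          simp only [πB, LinearMap.baseChange_tmul, π, Finsupp.linearCombination_single, ψ, TensorProduct.lift.tmul,
            LinearMap.compl₁₂_apply, LinearMap.comp_apply, map_smul, hφ, LinearMap.mul_apply']
          split_ifs
          · have : g 1 = 1 := by
              show Ideal.Quotient.mk q (algebraMap A B 1) = 1
              simp
            rw [this, mul_one]
            exact (map_smul (Ideal.Quotient.mkₐ A q) a c).symm
          · simp
      | add w w' hw hw' => simp only [map_add, Finsupp.add_apply, hw, hw']
    rw [← Ideal.Quotient.eq_zero_iff_mem, ← key, hz, map_zero]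
  obtain ⟨s, hs⟩ := Module.projective_lifting_property πB LinearMap.id hπB
  -- the kernel vanishes
  have hzero : ∀ z, πB z = 0 → z = 0 := by
    intro z hz
    let E : B ⊗[A] (ι →₀ A) →ₗ[B] B ⊗[A] (ι →₀ A) := LinearMap.id - s.comp πB
    have hEz : E z = z := by simp [E, hz]
    have hEker : ∀ w, πB (E w) = 0 := fun w => by
      have := LinearMap.congr_fun hs (πB w)
      simp only [LinearMap.comp_apply, LinearMap.id_apply] at this
      simp [E, this]
    let S := (bB.repr z).support
    let J : Ideal B := Ideal.span ↑((S ×ˢ S).image fun p => bB.repr (E (bB p.1)) p.2)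
    have hJ : IsNilpotent J := by
      refine Ideal.FG.isNilpotent_iff_le_nilradical ⟨_, rfl⟩ |>.2 (Ideal.span_le.2 fun y hy => ?_)
      obtain ⟨p, -, rfl⟩ := Finset.mem_image.1 (Finset.mem_coe.1 hy)
      exact mem_nilradical.2 (hnil _ (hEker _) _)
    obtain ⟨d, hd⟩ := hJ
    have hmem : ∀ n, ∀ j ∈ S, bB.repr z j ∈ J ^ n := by
      intro n
      induction n with
      | zero => simp
      | succ n ih =>
        intro j hj
        have hexp : z = ∑ i ∈ S, bB.repr z i • bB i := by
          conv_lhs => rw [← bB.linearCombination_repr z]
          rfl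
        have : bB.repr z j = ∑ i ∈ S, bB.repr z i * bB.repr (E (bB i)) j := by
          conv_lhs => rw [← hEz, hexp, map_sum, map_sum, Finsupp.finsetSum_apply]
          exact Finset.sum_congr rfl fun i _ => by simp
        rw [this, pow_succ]
        exact sum_mem fun i hi => Ideal.mul_mem_mul (ih i hi) (Ideal.subset_span
          (Finset.mem_coe.2 (Finset.mem_image.2 ⟨(i, j), Finset.mem_product.2 ⟨hi, hj⟩, rfl⟩)))
    refine bB.repr.injective ?_
    rw [map_zero]
    ext j
    by_contra hne
    have h := hmem d j (Finsupp.mem_support_iff.2 hne)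
    rw [hd, Ideal.zero_eq_bot, Ideal.mem_bot] at h
    exact hne h
  have hinjπ : Function.Injective π := by
    rw [injective_iff_map_eq_zero]
    intro f hf
    have h : (1 : B) ⊗ₜ[A] f = 0 := hzero _ (by rw [show πB ((1 : B) ⊗ₜ[A] f) = (1 : B) ⊗ₜ[A] π f from rfl, hf, TensorProduct.tmul_zero])
    ext i
    have := congrArg (fun w => bB.repr w i) h
    simp only [bB, Algebra.TensorProduct.basis_repr_tmul, map_zero, Finsupp.zero_apply] at this
    rw [Finsupp.zero_apply]
    refine hinj ?_
    simpa [Finsupp.basisSingleOne] using this
  exact Module.Free.of_equiv (LinearEquiv.ofBijective π ⟨hinjπ, hsurj⟩)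

end Groth.Agent.HopfFF
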