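import Groth.Agent.HopfFF.PointFlat
import Groth.Agent.LinRed.Orbit
import Groth.Agent.LinRed.Units
import Mathlib.RingTheory.RingHom.FaithfullyFlat
import Mathlib.RingTheory.Spectrum.Prime.Chevalley
import Mathlib.RingTheory.Ideal.GoingDown

/-!
# A Hopf algebra is faithfully flat over a Hopf subalgebra (finite type, algebraically closed field)
-/

set_option autoImplicit false
universe u v w

open TensorProduct WithConv

namespace Groth.Agent.HopfFF

open Groth.Agent.Comod Groth.Agent.LinRed

variable {k : Type u} [Field k] {A : Type v} [CommRing A] [HopfAlgebra k A]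
  {B : Type w} [CommRing B] [HopfAlgebra k B]

/-- translations commute with bialgebra maps -/
theorem transR_map (f : A →ₐc[k] B) (γ : WithConv (B →ₐ[k] k)) (a : A) :
    transR γ (f a) = f (transR (preComp f γ) a) := by
  rw [transR_apply, transR_apply, ← CoalgHomClass.map_comp_comul_apply f a]
  generalize Coalgebra.comul (R := k) a = z
  induction z with
  | zero => simp
  | tmul p q => simp [preComp_apply]
  | add y z hy hz => simp only [map_add, hy, hz]

theorem faithfullyFlat_of_injective_isAlgClosed [IsAlgClosed k] [Algebra.FiniteType k A]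
    [Algebra.FiniteType k B] (f : A →ₐc[k] B) (hinj : Function.Injective f) :
    (f : A →+* B).FaithfullyFlat := by
  classical
  letI : Algebra A B := (f : A →+* B).toAlgebra
  haveI : IsScalarTower k A B := IsScalarTower.of_algebraMap_eq fun c => (AlgHomClass.commutes f c).symm
  haveI : Algebra.FiniteType A B := Algebra.FiniteType.of_restrictScalars_finiteType k A B
  haveI : IsNoetherianRing A := Algebra.FiniteType.isNoetherianRing k A
  haveI : Nontrivial A := (Bialgebra.counitAlgHom k A).toRingHom.domain_nontrivial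
  haveI : Module.Free B (B ⊗[A] B) := free_tensor_self f fun _ => rfl
  obtain ⟨q, hq, hqflat⟩ := exists_flat_atPrime (A := A) (B := B) hinj
  obtain ⟨g, hgq, hgflat⟩ := exists_away_flat q hqflat
  -- translates of the flat open set cover
  let T : Set B := Set.range fun γ : WithConv (B →ₐ[k] k) => transR γ g
  have hspan : Ideal.span T = ⊤ := by
    by_contra hne
    obtain ⟨z, hz⟩ := exists_point_of_ne_top (k := k) (R := B) _ hne
    have hall : ∀ t : B →ₐ[k] k, t g = 0 := fun t => by
      have h6 : z (transR ((toConv z)⁻¹ * toConv t) g) = 0 := hz (Ideal.subset_span ⟨_, rfl⟩)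
      rw [show z (transR ((toConv z)⁻¹ * toConv t) g) =
        (toConv z * ((toConv z)⁻¹ * toConv t)).ofConv g from apply_transR (toConv z) _ _] at h6
      rwa [mul_inv_cancel_left] at h6
    apply hgq
    have hnil : g ∈ nilradical B := by
      by_contra hn
      haveI : _root_.IsReduced (B ⧸ nilradical B) :=
        (Ideal.isRadical_iff_quotient_reduced _).1 (Ideal.radical_isRadical _)
      obtain ⟨s, hs⟩ := exists_point_apply_ne_zero (k := k) (B := B ⧸ nilradical B)
        (mt Ideal.Quotient.eq_zero_iff_mem.1 hn)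
      exact hs (hall (s.comp (Ideal.Quotient.mkₐ k _)))
    exact nilradical_le_prime q hnil
  have hflat : (f : A →+* B).Flat := by
    rw [← RingHom.algebraMap_toAlgebra (f : A →+* B), RingHom.flat_algebraMap_iff]
    refine Module.flat_of_isLocalized_span B B T hspan (fun r => Localization.Away r.1)
      (fun r => Algebra.linearMap B _) fun t => RingHom.flat_algebraMap_iff.1 ?_
    obtain ⟨_, γ, rfl⟩ := t
    let e : B ≃+* B := (transREquiv γ).toRingEquiv
    let s : A ≃+* A := (transREquiv (preComp f γ)).toRingEquiv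
    let e' : Localization.Away g ≃+* Localization.Away (transR γ g) :=
      IsLocalization.ringEquivOfRingEquiv (T := Submonoid.powers (transR γ g)) (Localization.Away g)
        (Localization.Away (transR γ g)) e (Submonoid.map_powers e.toMonoidHom g)
    have heq : (algebraMap B (Localization.Away (transR γ g))).comp (f : A →+* B) =
        e'.toRingHom.comp ((algebraMap A (Localization.Away g)).comp s.symm.toRingHom) := by
      ext a
      show algebraMap B _ (f a) = e' (algebraMap A (Localization.Away g) (s.symm a))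
      rw [IsScalarTower.algebraMap_apply A B (Localization.Away g), IsLocalization.ringEquivOfRingEquiv_eq]
      congr 1
      show f a = transR γ (f (s.symm a))
      rw [transR_map]
      exact congrArg f (s.apply_symm_apply a).symm
    rw [show algebraMap A (Localization.Away (transR γ g)) =
      (algebraMap B (Localization.Away (transR γ g))).comp (f : A →+* B) from IsScalarTower.algebraMap_eq A B _, heq]
    exact ((RingHom.Flat.of_bijective s.symm.bijective).comp hgflat).comp (RingHom.Flat.of_bijective e'.bijective)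
  haveI : Module.Flat A B := RingHom.flat_algebraMap_iff.1 hflat
  -- surjectivity
  haveI : Algebra.FinitePresentation A B := Algebra.FinitePresentation.of_finiteType.1 inferInstance
  have hopen := PrimeSpectrum.isOpenMap_comap_of_hasGoingDown_of_finitePresentation (R := A) (S := B)
  obtain ⟨I, hI⟩ := (PrimeSpectrum.isClosed_iff_zeroLocus_ideal _).1 hopen.isOpen_range.isClosed_compl
  have hmin : ∀ p ∈ minimalPrimes A, ¬ I ≤ p := by
    intro p hp hIp
    haveI : p.IsPrime := hp.1.1
    obtain ⟨Q, hQ, hQp⟩ := Ideal.exists_comap_eq_of_mem_minimalPrimes_of_injective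
      (f := algebraMap A B) hinj p hp
    have h : (⟨p, inferInstance⟩ : PrimeSpectrum A) ∈ PrimeSpectrum.zeroLocus (I : Set A) := hIp
    rw [← hI] at h
    exact h ⟨⟨Q, hQ⟩, PrimeSpectrum.ext hQp⟩
  obtain ⟨g0, hg0I, hg0⟩ : ∃ g0 ∈ I, ∀ p ∈ minimalPrimes A, g0 ∉ p := by
    by_contra h
    push Not at h
    have hfin := minimalPrimes.finite_of_isNoetherianRing A
    obtain ⟨p, hp, hIp⟩ := (Ideal.subset_union_prime (s := hfin.toFinset) (f := id) ⊥ ⊥
      fun p hp _ _ => (hfin.mem_toFinset.1 hp).1.1).1 (fun x hx => by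
        obtain ⟨p, hp, hxp⟩ := h x hx
        exact Set.mem_iUnion₂.2 ⟨p, hfin.mem_toFinset.2 hp, hxp⟩)
    exact hmin p (hfin.mem_toFinset.1 hp) hIp
  obtain ⟨p, hp⟩ := Ideal.nonempty_minimalPrimes (I := (⊥ : Ideal A)) bot_ne_top
  have hpreim : ∀ u : A →ₐ[k] k, u g0 ≠ 0 → ∃ z : WithConv (B →ₐ[k] k), preComp f z = toConv u := by
    intro u hu
    haveI : (RingHom.ker u).IsPrime := RingHom.ker_isPrime _
    have h : (⟨RingHom.ker u, inferInstance⟩ : PrimeSpectrum A) ∈
        Set.range (PrimeSpectrum.comap (algebraMap A B)) := by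
      by_contra h
      have h' : (⟨RingHom.ker u, inferInstance⟩ : PrimeSpectrum A) ∈ PrimeSpectrum.zeroLocus (I : Set A) := by
        rw [← hI]; exact h
      exact hu (h' hg0I)
    obtain ⟨Q, hQ⟩ := h
    obtain ⟨z, hz⟩ := exists_point_of_ne_top (k := k) (R := B) Q.asIdeal Q.isPrime.ne_top
    refine ⟨toConv z, ?_⟩
    apply WithConv.ofConv_injective
    ext a
    show z (f a) = u a
    have h1 : a - algebraMap k A (u a) ∈ RingHom.ker u := by simp [RingHom.mem_ker]
    rw [← show (PrimeSpectrum.comap (algebraMap A B) Q).asIdeal = RingHom.ker u from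
      congrArg PrimeSpectrum.asIdeal hQ] at h1
    have h2 : z (f (a - algebraMap k A (u a))) = 0 := hz h1
    rwa [map_sub, map_sub, AlgHomClass.commutes, AlgHom.commutes, sub_eq_zero] at h2
  rw [← RingHom.algebraMap_toAlgebra (f : A →+* B), RingHom.faithfullyFlat_algebraMap_iff]
  refine ⟨fun m hm htop => ?_⟩
  obtain ⟨t, ht⟩ := exists_point_of_ne_top (k := k) (R := A) m hm.ne_top
  obtain ⟨v, hv⟩ : ∃ v : A →ₐ[k] k, v (g0 * transR (toConv t) g0) ≠ 0 := by
    have hnot : g0 * transR (toConv t) g0 ∉ p := by
      haveI : p.IsPrime := hp.1.1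
      refine fun h => ((Ideal.IsPrime.mem_or_mem ‹_› h).elim (hg0 p hp) ?_)
      intro h'
      let e : A ≃+* A := (transREquiv (toConv t)).toRingEquiv
      refine hg0 (p.comap e.toRingHom) ⟨⟨Ideal.IsPrime.comap _, bot_le⟩, fun r hr hle => ?_⟩ h'
      intro x hx
      haveI : r.IsPrime := hr.1
      have h1 : r.comap e.symm.toRingHom ≤ p := fun y hy => by
        have h4 : e (e.symm y) ∈ p := hle hy
        rwa [e.apply_symm_apply] at h4
      have h2 := hp.2 ⟨Ideal.IsPrime.comap _, bot_le⟩ h1
      have h3 : e x ∈ r.comap e.symm.toRingHom := h2 hx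
      simpa using h3
    have hn : g0 * transR (toConv t) g0 ∉ nilradical A := fun h => by
      haveI : p.IsPrime := hp.1.1
      exact hnot (nilradical_le_prime p h)
    haveI : _root_.IsReduced (A ⧸ nilradical A) :=
      (Ideal.isRadical_iff_quotient_reduced _).1 (Ideal.radical_isRadical _)
    obtain ⟨s, hs⟩ := exists_point_apply_ne_zero (k := k) (B := A ⧸ nilradical A)
      (mt Ideal.Quotient.eq_zero_iff_mem.1 hn)
    exact ⟨s.comp (Ideal.Quotient.mkₐ k _), hs⟩
  rw [map_mul, mul_ne_zero_iff] at hv
  obtain ⟨z, hz⟩ := hpreim v hv.1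
  have hv2 : (toConv v * toConv t).ofConv g0 ≠ 0 := by
    rw [← apply_transR]; exact hv.2
  obtain ⟨z', hz'⟩ := hpreim _ hv2
  have hzt : preComp f (z⁻¹ * z') = toConv t := by
    apply mul_left_cancel (a := toConv v)
    calc toConv v * preComp f (z⁻¹ * z') = preComp f z * preComp f (z⁻¹ * z') := by rw [hz]
      _ = toConv v * toConv t := by rw [← map_mul, mul_inv_cancel_left, hz']
  have hle : m • (⊤ : Submodule A B) ≤
      Submodule.restrictScalars A (RingHom.ker (z⁻¹ * z').ofConv) := by
    refine Submodule.smul_le.2 fun a ha b _ => ?_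
    show (z⁻¹ * z').ofConv (a • b) = 0
    rw [Algebra.smul_def, map_mul]
    have h0 : (z⁻¹ * z').ofConv (algebraMap A B a) = t a :=
      DFunLike.congr_fun (congrArg WithConv.ofConv hzt) a
    rw [h0, show t a = 0 from ht ha, zero_mul]
  have h1 : (1 : B) ∈ Submodule.restrictScalars A (RingHom.ker (z⁻¹ * z').ofConv) :=
    hle (htop.ge Submodule.mem_top)
  exact one_ne_zero ((map_one (z⁻¹ * z').ofConv).symm.trans h1)

end Groth.Agent.HopfFF
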