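import Groth.Agent.FinHopf.Power
import Mathlib.RingTheory.Bialgebra.Hom
import Mathlib.RingTheory.HopfAlgebra.Convolution
import Mathlib.RingTheory.TensorProduct.Free

/-!
# The Galois isomorphism of a map of commutative Hopf algebras

For `f : A → B`, `B ⊗[A] B ≅ B ⊗[k] (B ⧸ A⁺B)`; in particular it is a free `B`-module over a field.
-/

set_option autoImplicit false
universe u v w

open TensorProduct WithConv

namespace Groth.Agent.HopfFF

variable {k : Type u} [Field k] {A : Type v} [CommRing A] [HopfAlgebra k A]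
  {B : Type w} [CommRing B] [HopfAlgebra k B]

/-- precomposition with a bialgebra map -/
noncomputable def preComp {T : Type*} [CommRing T] [Algebra k T] (f : A →ₐc[k] B) :
    WithConv (B →ₐ[k] T) →* WithConv (A →ₐ[k] T) where
  toFun x := toConv (x.ofConv.comp (f : A →ₐ[k] B))
  map_one' := by
    apply WithConv.ofConv_injective
    ext a
    show algebraMap k T (Coalgebra.counit (R := k) (f a)) = algebraMap k T (Coalgebra.counit (R := k) a)
    rw [CoalgHomClass.counit_comp_apply]
  map_mul' x y := by
    apply WithConv.ofConv_injective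
    ext a
    rw [AlgHom.convMul_apply]
    show (x * y).ofConv (f a) = _
    rw [AlgHom.convMul_apply, ← CoalgHomClass.map_comp_comul_apply f a]
    generalize Coalgebra.comul (R := k) a = z
    induction z with
    | zero => simp
    | tmul p q => simp
    | add z z' hz hz' => simp only [map_add, hz, hz']

@[simp] theorem preComp_apply {T : Type*} [CommRing T] [Algebra k T] (f : A →ₐc[k] B)
    (x : WithConv (B →ₐ[k] T)) (a : A) : (preComp f x).ofConv a = x.ofConv (f a) := rfl

/-- the inverse of a point with values in any commutative algebra -/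
noncomputable def inv' {T : Type*} [CommRing T] [Algebra k T] (x : WithConv (B →ₐ[k] T)) :
    WithConv (B →ₐ[k] T) :=
  FinHopf.postComp x.ofConv (toConv (AlgHom.id k B))⁻¹

theorem postComp_id {T : Type*} [CommRing T] [Algebra k T] (x : WithConv (B →ₐ[k] T)) :
    FinHopf.postComp x.ofConv (toConv (AlgHom.id k B)) = x := rfl

theorem inv'_mul {T : Type*} [CommRing T] [Algebra k T] (x : WithConv (B →ₐ[k] T)) : inv' x * x = 1 := by
  conv_lhs => arg 2; rw [← postComp_id x]
  rw [inv', ← map_mul, inv_mul_cancel, map_one]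

theorem mul_inv' {T : Type*} [CommRing T] [Algebra k T] (x : WithConv (B →ₐ[k] T)) : x * inv' x = 1 := by
  conv_lhs => arg 1; rw [← postComp_id x]
  rw [inv', ← map_mul, mul_inv_cancel, map_one]

theorem postComp_inv'_mul_cancel {T T' : Type*} [CommRing T] [Algebra k T] [CommRing T'] [Algebra k T']
    (φ : T →ₐ[k] T') (x : WithConv (B →ₐ[k] T)) (z : WithConv (B →ₐ[k] T')) :
    FinHopf.postComp φ (inv' x) * (FinHopf.postComp φ x * z) = z := by
  rw [← mul_assoc, ← map_mul, inv'_mul, map_one, one_mul]

variable [Algebra A B] [IsScalarTower k A B]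

/-- `B ⊗[A] B` is free over `B` for a map of Hopf algebras over a field. -/
theorem free_tensor_self (f : A →ₐc[k] B) (hf : ∀ a, algebraMap A B a = f a) :
    Module.Free B (B ⊗[A] B) := by
  let I : Ideal B := (RingHom.ker (Bialgebra.counitAlgHom k A)).map (algebraMap A B)
  let S := B ⧸ I
  let T := B ⊗[A] B
  let T' := B ⊗[k] S
  -- the two tautological points
  let i₁ : WithConv (B →ₐ[k] T) := toConv (Algebra.TensorProduct.includeLeft : B →ₐ[k] T)
  let i₂ : WithConv (B →ₐ[k] T) :=
    toConv ((Algebra.TensorProduct.includeRight : B →ₐ[A] T).restrictScalars k)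
  let j₁ : WithConv (B →ₐ[k] T') := toConv (Algebra.TensorProduct.includeLeft : B →ₐ[k] T')
  let jπ : WithConv (B →ₐ[k] T') :=
    toConv ((Algebra.TensorProduct.includeRight : S →ₐ[k] T').comp (Ideal.Quotient.mkₐ k I))
  have hi : preComp f i₁ = preComp f i₂ := by
    apply WithConv.ofConv_injective
    ext a
    show (f a) ⊗ₜ[A] (1 : B) = (1 : B) ⊗ₜ[A] (f a)
    rw [← hf, Algebra.algebraMap_eq_smul_one, TensorProduct.smul_tmul]
  have hπ : preComp f jπ = 1 := by
    apply WithConv.ofConv_injective
    ext a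
    show (1 : B) ⊗ₜ[k] Ideal.Quotient.mk I (f a) = algebraMap k T' (Coalgebra.counit (R := k) a)
    have h : f (a - algebraMap k A (Coalgebra.counit (R := k) a)) ∈ I := by
      rw [← hf]
      exact Ideal.mem_map_of_mem _ (by simp [RingHom.mem_ker])
    rw [map_sub, AlgHomClass.commutes, ← Ideal.Quotient.eq] at h
    rw [h, ← Ideal.Quotient.algebraMap_eq I, ← IsScalarTower.algebraMap_apply k B S,
      Algebra.algebraMap_eq_smul_one, TensorProduct.tmul_smul, Algebra.algebraMap_eq_smul_one]
    rfl
  -- the forward map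
  have hΘ : ∀ a, (j₁ * jπ).ofConv (f a) = (Algebra.TensorProduct.includeLeft : B →ₐ[k] T') (f a) := by
    intro a
    rw [← preComp_apply, map_mul, hπ]
    exact congrArg (fun z : WithConv (A →ₐ[k] T') => z.ofConv a) (mul_one (preComp f j₁))
  let r : B →ₐ[A] T' :=
    { (j₁ * jπ).ofConv.toRingHom with
      commutes' := fun a => by
        rw [IsScalarTower.algebraMap_apply A B T']
        show (j₁ * jπ).ofConv (algebraMap A B a) = algebraMap B T' (algebraMap A B a)
        rw [hf, hΘ]
        rfl }
  let Θ : T →ₐ[B] T' := Algebra.TensorProduct.lift (Algebra.ofId B T') r (fun _ _ => Commute.all _ _)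
  -- the backward map
  have hker : I ≤ RingHom.ker (inv' i₁ * i₂).ofConv := by
    refine Ideal.map_le_iff_le_comap.2 fun a ha => ?_
    rw [Ideal.mem_comap, RingHom.mem_ker, hf, ← preComp_apply, map_mul, ← hi, ← map_mul, inv'_mul, map_one]
    show algebraMap k T (Coalgebra.counit (R := k) a) = 0
    rw [show Coalgebra.counit (R := k) a = 0 from ha, map_zero]
  let l : S →ₐ[k] T := Ideal.Quotient.liftₐ I (inv' i₁ * i₂).ofConv fun b hb => hker hb
  let Θ' : T' →ₐ[B] T := Algebra.TensorProduct.lift (Algebra.ofId B T) l (fun _ _ => Commute.all _ _)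
  have hΘ₁ : FinHopf.postComp (C := B) (Θ.restrictScalars k) i₁ = j₁ := by
    apply WithConv.ofConv_injective
    ext b
    show Θ (b ⊗ₜ[A] 1) = b ⊗ₜ[k] 1
    refine (Algebra.TensorProduct.lift_tmul _ _ _ _ _).trans ?_
    rw [map_one]
    first | exact one_mul _ | exact mul_one _
  have hΘ₂ : FinHopf.postComp (C := B) (Θ.restrictScalars k) i₂ = j₁ * jπ := by
    apply WithConv.ofConv_injective
    ext b
    show Θ (1 ⊗ₜ[A] b) = _
    refine (Algebra.TensorProduct.lift_tmul _ _ _ _ _).trans ?_
    rw [map_one]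
    first | exact one_mul _ | exact mul_one _
  have hΘ'₁ : FinHopf.postComp (C := B) (Θ'.restrictScalars k) j₁ = i₁ := by
    apply WithConv.ofConv_injective
    ext b
    show Θ' (b ⊗ₜ[k] 1) = b ⊗ₜ[A] 1
    refine (Algebra.TensorProduct.lift_tmul _ _ _ _ _).trans ?_
    rw [map_one]
    first | exact one_mul _ | exact mul_one _
  have hΘ'π : FinHopf.postComp (C := B) (Θ'.restrictScalars k) jπ = inv' i₁ * i₂ := by
    apply WithConv.ofConv_injective
    ext b
    show Θ' (1 ⊗ₜ[k] Ideal.Quotient.mk I b) = _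
    refine (Algebra.TensorProduct.lift_tmul _ _ _ _ _).trans ?_
    simp [r, l] <;> rfl
  have e₁ : Θ.comp Θ' = AlgHom.id B T' := by
    refine Algebra.TensorProduct.ext (AlgHom.ext fun b => ?_) (AlgHom.ext fun s => ?_)
    · exact ((Θ.comp Θ').commutes b)
    · obtain ⟨b, rfl⟩ := Ideal.Quotient.mk_surjective s
      have h : FinHopf.postComp (C := B) (Θ.restrictScalars k)
          (FinHopf.postComp (C := B) (Θ'.restrictScalars k) jπ) = jπ := by
        rw [hΘ'π, map_mul, hΘ₂, ← hΘ₁]
        exact postComp_inv'_mul_cancel _ i₁ jπ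
      exact DFunLike.congr_fun (congrArg WithConv.ofConv h) b
  have e₂ : Θ'.comp Θ = AlgHom.id B T := by
    refine Algebra.TensorProduct.ext (AlgHom.ext fun b => ?_) (AlgHom.ext fun b => ?_)
    · exact ((Θ'.comp Θ).commutes b)
    · have h : FinHopf.postComp (C := B) (Θ'.restrictScalars k)
          (FinHopf.postComp (C := B) (Θ.restrictScalars k) i₂) = i₂ := by
        rw [hΘ₂, map_mul, hΘ'₁, hΘ'π, ← mul_assoc, mul_inv', one_mul]
      exact DFunLike.congr_fun (congrArg WithConv.ofConv h) b
  exact Module.Free.of_equiv (AlgEquiv.ofAlgHom Θ' Θ e₂ e₁).toLinearEquiv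

end Groth.Agent.HopfFF
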