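import Groth.Agent.HopfFF.Galois
import Groth.Agent.HopfFF.ArtinDescent
import Groth.Agent.QFFlatSlice.Basic
import Mathlib.RingTheory.Flat.Localization
import Mathlib.RingTheory.RingHom.Flat
import Mathlib.RingTheory.Ideal.MinimalPrime.Localization

/-!
# An injective map of Hopf algebras is flat somewhere
-/

set_option autoImplicit false
universe u v w

open TensorProduct

namespace Groth.Agent.HopfFF

/-- flatness at some prime, when the Galois module is free -/
theorem exists_flat_atPrime {A : Type v} [CommRing A] [IsNoetherianRing A] [Nontrivial A]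
    {B : Type w} [CommRing B] [Algebra A B] (hinj : Function.Injective (algebraMap A B))
    [Module.Free B (B ⊗[A] B)] :
    ∃ (q : Ideal B) (_ : q.IsPrime), Module.Flat A (Localization.AtPrime q) := by
  obtain ⟨p, hp⟩ := Ideal.nonempty_minimalPrimes (I := (⊥ : Ideal A)) bot_ne_top
  haveI : p.IsPrime := hp.1.1
  let Ap := Localization.AtPrime p
  let Sp := Algebra.algebraMapSubmonoid B p.primeCompl
  let Bp := Localization Sp
  haveI : IsArtinianRing Ap := by
    haveI : IsNoetherianRing Ap := IsLocalization.isNoetherianRing p.primeCompl Ap inferInstance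
    haveI : Ring.KrullDimLE 0 Ap := .of_isLocalization p hp _
    exact IsNoetherianRing.isArtinianRing_of_krullDimLE_zero
  haveI : IsLocalization (p.primeCompl.map (algebraMap A B)) Bp := inferInstanceAs (IsLocalization Sp (Localization Sp))
  have hinjp : Function.Injective (algebraMap Ap Bp) := by
    rw [IsLocalization.algebraMap_eq_map_map_submonoid p.primeCompl B Ap Bp]
    exact IsLocalization.map_injective_of_injective _ _ _ hinj
  let M := Ap ⊗[A] B
  haveI : Module.Free Bp (Bp ⊗[Ap] M) := by
    haveI : Module.Free Bp (Bp ⊗[B] (B ⊗[A] B)) := inferInstance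
    exact Module.Free.of_equiv ((AlgebraTensorModule.cancelBaseChange A B Bp Bp B).trans
      (AlgebraTensorModule.cancelBaseChange A Ap Bp Bp B).symm)
  haveI : Module.Free Ap M := free_of_projective_baseChange Bp hinjp M
  haveI : Module.Flat A Ap := IsLocalization.flat Ap p.primeCompl
  haveI : Module.Flat A M := Module.Flat.trans A Ap M
  have eM : M ≃ₗ[A] Bp := by
    haveI : IsLocalizedModule p.primeCompl (IsScalarTower.toAlgHom A B Bp).toLinearMap :=
      isLocalizedModule_iff_isLocalization.2 inferInstance
    exact (LocalizedModule.equivTensorProduct p.primeCompl B).symm.restrictScalars A ≪≫ₗ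
      (IsLocalizedModule.iso p.primeCompl (IsScalarTower.toAlgHom A B Bp).toLinearMap).restrictScalars A
  haveI : Module.Flat A Bp := Module.Flat.of_linearEquiv eM.symm
  -- a prime of `B` over `p`
  obtain ⟨q, hq, hqp⟩ := Ideal.exists_comap_eq_of_mem_minimalPrimes_of_injective hinj p hp
  refine ⟨q, hq, ?_⟩
  have hle : Sp ≤ q.primeCompl := by
    rintro _ ⟨a, ha, rfl⟩ hmem
    exact ha (hqp ▸ hmem)
  letI : Algebra Bp (Localization.AtPrime q) := IsLocalization.localizationAlgebraOfSubmonoidLe Bp _ Sp q.primeCompl hle
  haveI : IsScalarTower B Bp (Localization.AtPrime q) :=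
    IsLocalization.localization_isScalarTower_of_submonoid_le Bp _ Sp q.primeCompl hle
  haveI : IsScalarTower A Bp (Localization.AtPrime q) := IsScalarTower.of_algebraMap_eq fun a => by
    rw [IsScalarTower.algebraMap_apply A B Bp, ← IsScalarTower.algebraMap_apply B Bp,
      ← IsScalarTower.algebraMap_apply A B]
  haveI : IsLocalization (q.primeCompl.map (algebraMap B Bp)) (Localization.AtPrime q) :=
    IsLocalization.isLocalization_of_submonoid_le Bp _ Sp q.primeCompl hle
  haveI : Module.Flat Bp (Localization.AtPrime q) :=
    IsLocalization.flat _ (q.primeCompl.map (algebraMap B Bp))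
  exact Module.Flat.trans A Bp _

/-- universe lifting without inherited actions -/
def Up.{a, b} (R : Type a) : Type (max a b) := ULift.{b} R

instance {R : Type v} [CommRing R] : CommRing (Up.{v, w} R) := inferInstanceAs (CommRing (ULift.{w} R))

/-- `Up R ≃+* R` -/
def upEquiv {R : Type v} [CommRing R] : Up.{v, w} R ≃+* R := ULift.ringEquiv

/-- flatness on a nonempty basic open set -/
theorem exists_away_flat {A : Type v} [CommRing A] [IsNoetherianRing A]
    {B : Type w} [CommRing B] [Algebra A B] [Algebra.FiniteType A B]
    (q : Ideal B) [q.IsPrime] (h : Module.Flat A (Localization.AtPrime q)) :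
    ∃ g ∉ q, (algebraMap A (Localization.Away g)).Flat := by
  let eA : Up.{v, w} A ≃+* A := upEquiv
  let eB : Up.{w, v} B ≃+* B := upEquiv
  let φ : Up.{v, w} A →+* Up.{w, v} B := eB.symm.toRingHom.comp ((algebraMap A B).comp eA.toRingHom)
  letI : Algebra (Up.{v, w} A) (Up.{w, v} B) := φ.toAlgebra
  haveI : IsNoetherianRing (Up.{v, w} A) := isNoetherianRing_of_ringEquiv A eA.symm
  haveI : Algebra.FiniteType (Up.{v, w} A) (Up.{w, v} B) := by
    show φ.FiniteType
    exact (RingHom.FiniteType.of_surjective _ eB.symm.surjective).comp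
      ((show (algebraMap A B).FiniteType from RingHom.finiteType_algebraMap.2 inferInstance).comp
        (RingHom.FiniteType.of_surjective _ eA.surjective))
  let q' : Ideal (Up.{w, v} B) := q.comap eB.toRingHom
  have hmap : q'.primeCompl.map eB.toMonoidHom = q.primeCompl := by
    ext b
    constructor
    · rintro ⟨x, hx, rfl⟩; exact hx
    · intro hb; exact ⟨eB.symm b, by show eB (eB.symm b) ∉ q; simpa using hb, by simp⟩
  let eq' : Localization.AtPrime q' ≃+* Localization.AtPrime q :=
    IsLocalization.ringEquivOfRingEquiv _ _ eB hmap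
  have h' : Module.Flat (Up.{v, w} A) (LocalizedModule q'.primeCompl (Up.{w, v} B)) := by
    have hr : (algebraMap (Up.{v, w} A) (Localization.AtPrime q')).Flat := by
      have e : algebraMap (Up.{v, w} A) (Localization.AtPrime q') =
          eq'.symm.toRingHom.comp ((algebraMap A (Localization.AtPrime q)).comp eA.toRingHom) := by
        ext a
        refine eq'.injective ?_
        show eq' (algebraMap (Up.{w, v} B) _ (φ a)) = eq' (eq'.symm (algebraMap A _ (eA a)))
        rw [IsLocalization.ringEquivOfRingEquiv_eq, RingEquiv.apply_symm_apply,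
          IsScalarTower.algebraMap_apply A B (Localization.AtPrime q)]
        simp [φ]
      rw [e]
      exact ((RingHom.Flat.of_bijective eA.bijective).comp (RingHom.flat_algebraMap_iff.2 h)).comp
        (RingHom.Flat.of_bijective eq'.symm.bijective)
    haveI : Module.Flat (Up.{v, w} A) (Localization.AtPrime q') := RingHom.flat_algebraMap_iff.1 hr
    exact Module.Flat.of_linearEquiv ((IsLocalizedModule.iso q'.primeCompl
      (Algebra.linearMap (Up.{w, v} B) (Localization.AtPrime q'))).restrictScalars (Up.{v, w} A))
  obtain ⟨g, hg, hflat⟩ := Groth.Agent.QFFlatSlice.exists_away_flat q' h'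
  refine ⟨eB g, hg, ?_⟩
  let eg : Localization.Away g ≃+* Localization.Away (eB g) :=
    IsLocalization.ringEquivOfRingEquiv (T := Submonoid.powers (eB g)) (Localization.Away g) (Localization.Away (eB g)) eB
      (Submonoid.map_powers eB.toMonoidHom g)
  have e : algebraMap A (Localization.Away (eB g)) =
      eg.toRingHom.comp ((algebraMap (Up.{v, w} A) (Localization.Away g)).comp eA.symm.toRingHom) := by
    ext a
    show _ = eg (algebraMap (Up.{w, v} B) _ (φ (eA.symm a)))
    rw [IsLocalization.ringEquivOfRingEquiv_eq, IsScalarTower.algebraMap_apply A B (Localization.Away (eB g))]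
    simp [φ]
  rw [e]
  exact ((RingHom.Flat.of_bijective eA.symm.bijective).comp (RingHom.flat_algebraMap_iff.2 hflat)).comp
    (RingHom.Flat.of_bijective eg.bijective)

end Groth.Agent.HopfFF
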